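import Cfsg.Agent.H426.TL.Cyc

set_option autoImplicit false
set_option linter.unusedSectionVars false

namespace Cfsg.Agent.H426.TL

open Matrix Finset

variable {F : Type*} [Field F] {ι : Type*} [Fintype ι] [DecidableEq ι]

/-- the Krylov rows -/
def kr (φ : ι → F) (N : Matrix ι ι F) (j : ℕ) : Fin j → (ι → F) := fun k => φ ᵥ* N ^ (k : ℕ)

theorem cyc_of_li {φ : ι → F} {N : Matrix ι ι F}
    (h : LinearIndependent F (kr φ N (Fintype.card ι))) : Cyc φ N := by
  intro w hw
  have hsp : Submodule.span F (Set.range (kr φ N (Fintype.card ι))) = ⊤ := by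
    apply h.span_eq_top_of_card_eq_finrank'
    simp
  have h1 : ∀ z ∈ Submodule.span F (Set.range (kr φ N (Fintype.card ι))), z ⬝ᵥ w = 0 := by
    intro z hz
    induction hz using Submodule.span_induction with
    | mem x hx =>
      obtain ⟨k, rfl⟩ := hx
      rw [kr, ← dotProduct_mulVec]
      exact hw k
    | zero => simp
    | add x y _ _ hx hy => rw [add_dotProduct, hx, hy, add_zero]
    | smul a x _ hx => rw [smul_dotProduct, hx, smul_zero]
  ext i
  have h2 := h1 (Pi.single i 1) (by rw [hsp]; trivial)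
  simpa using h2

theorem exists_dual {j : ℕ} {r : Fin (j + 1) → (ι → F)} (h : LinearIndependent F r) :
    ∃ δ : ι → F, ∀ k, r k ⬝ᵥ δ = if k = Fin.last j then 1 else 0 := by
  let R : Matrix (Fin (j + 1)) ι F := Matrix.of r
  have h1 : R.rank = Fintype.card (Fin (j + 1)) := LinearIndependent.rank_matrix (M := R) h
  have h2 : Function.Surjective R.mulVecLin := by
    rw [← LinearMap.range_eq_top]
    apply Submodule.eq_top_of_finrank_eq
    rw [Module.finrank_pi]
    exact h1
  obtain ⟨δ, hδ⟩ := h2 (fun k => if k = Fin.last j then 1 else 0)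
  refine ⟨δ, fun k => ?_⟩
  have := congrFun hδ k
  simpa [mulVec, R] using this

open Classical in
/-- a chosen dual vector, depending only on the family -/
noncomputable def dv {j : ℕ} (r : Fin (j + 1) → (ι → F)) : ι → F :=
  if h : ∃ δ : ι → F, ∀ k, r k ⬝ᵥ δ = if k = Fin.last j then 1 else 0 then h.choose else 0

theorem dv_spec {j : ℕ} {r : Fin (j + 1) → (ι → F)} (h : LinearIndependent F r)
    (k : Fin (j + 1)) : r k ⬝ᵥ dv r = if k = Fin.last j then 1 else 0 := by
  have h1 := exists_dual h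
  rw [dv, dif_pos h1]
  exact h1.choose_spec k

/-- the modified matrix: the first `j` Krylov rows after `φ` are kept, the next one is `z` -/
noncomputable def md (φ : ι → F) (j : ℕ) (N : Matrix ι ι F) (z : ι → F) : Matrix ι ι F :=
  N + vecMulVec (dv (kr φ N (j + 1))) (z - φ ᵥ* N ^ (j + 1))

theorem vecMul_vv (x u v : ι → F) : x ᵥ* vecMulVec u v = (x ⬝ᵥ u) • v := by
  ext i
  simp only [vecMul, dotProduct, vecMulVec_apply, Pi.smul_apply, smul_eq_mul, Finset.sum_mul]
  exact Finset.sum_congr rfl fun k _ => by ring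

theorem md_kr {φ : ι → F} {j : ℕ} {N : Matrix ι ι F} (z : ι → F)
    (h : LinearIndependent F (kr φ N (j + 1))) (k : ℕ) (hk : k ≤ j) :
    φ ᵥ* (md φ j N z) ^ k = φ ᵥ* N ^ k := by
  induction k with
  | zero => simp
  | succ k ih =>
    rw [pow_succ, ← vecMul_vecMul, ih (by omega), md, vecMul_add, vecMul_vv]
    have h1 := dv_spec h ⟨k, by omega⟩
    rw [if_neg (by intro h2; have := congrArg Fin.val h2; simp at this; omega)] at h1
    change (φ ᵥ* N ^ k) ⬝ᵥ _ = 0 at h1
    rw [h1, zero_smul, add_zero, vecMul_vecMul, ← pow_succ]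

theorem md_last {φ : ι → F} {j : ℕ} {N : Matrix ι ι F} (z : ι → F)
    (h : LinearIndependent F (kr φ N (j + 1))) :
    φ ᵥ* (md φ j N z) ^ (j + 1) = z := by
  rw [pow_succ, ← vecMul_vecMul, md_kr z h j le_rfl, md, vecMul_add, vecMul_vv]
  have h1 := dv_spec h (Fin.last j)
  rw [if_pos rfl] at h1
  change (φ ᵥ* N ^ j) ⬝ᵥ _ = 1 at h1
  rw [h1, one_smul, vecMul_vecMul, ← pow_succ]
  abel

theorem md_krf {φ : ι → F} {j : ℕ} {N : Matrix ι ι F} (z : ι → F)
    (h : LinearIndependent F (kr φ N (j + 1))) :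
    kr φ (md φ j N z) (j + 1) = kr φ N (j + 1) := by
  funext k
  exact md_kr z h k (by omega)

variable [Fintype F] [DecidableEq F]

open Classical in
noncomputable def bad (φ : ι → F) (j : ℕ) : Finset (Matrix ι ι F) :=
  Finset.univ.filter fun N => LinearIndependent F (kr φ N (j + 1)) ∧
    ¬ LinearIndependent F (kr φ N (j + 2))

theorem exists_coef {φ : ι → F} {j : ℕ} {N : Matrix ι ι F} (h : N ∈ bad φ j) :
    ∃ c : Fin (j + 1) → F, ∑ k, c k • kr φ N (j + 1) k = φ ᵥ* N ^ (j + 1) := by
  classical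
  obtain ⟨h1, h2⟩ := (Finset.mem_filter.1 h).2
  rw [linearIndependent_finSucc'] at h2
  have h3 : Fin.init (kr φ N (j + 2)) = kr φ N (j + 1) := by
    funext k; rfl
  rw [h3] at h2
  have h4 : kr φ N (j + 2) (Fin.last (j + 1)) ∈
      Submodule.span F (Set.range (kr φ N (j + 1))) := by
    by_contra h5
    exact h2 ⟨h1, h5⟩
  rw [Submodule.mem_span_range_iff_exists_fun] at h4
  exact h4

theorem card_bad (φ : ι → F) (j : ℕ) :
    (bad φ j).card * Fintype.card F ^ (Fintype.card ι) ≤
      Fintype.card F ^ (Fintype.card ι * Fintype.card ι) * Fintype.card F ^ (j + 1) := by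
  classical
  let c : Matrix ι ι F → (Fin (j + 1) → F) := fun N =>
    if h : N ∈ bad φ j then (exists_coef h).choose else 0
  let f : Matrix ι ι F × (ι → F) → Matrix ι ι F × (Fin (j + 1) → F) :=
    fun p => (md φ j p.1 p.2, c p.1)
  have hinj : Set.InjOn f ((bad φ j) ×ˢ (Finset.univ : Finset (ι → F)) : Finset _) := by
    rintro ⟨N, z⟩ hN ⟨N', z'⟩ hN' hf
    rw [Finset.mem_coe, Finset.mem_product] at hN hN'
    have hb := hN.1
    have hb' := hN'.1
    have h1 := (Finset.mem_filter.1 hb).2.1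
    have h1' := (Finset.mem_filter.1 hb').2.1
    have e1 : md φ j N z = md φ j N' z' := congrArg Prod.fst hf
    have e2 : c N = c N' := congrArg Prod.snd hf
    have e3 : kr φ N (j + 1) = kr φ N' (j + 1) := by
      rw [← md_krf z h1, ← md_krf z' h1', e1]
    have e4 : z = z' := by rw [← md_last z h1, ← md_last z' h1', e1]
    have e5 : φ ᵥ* N ^ (j + 1) = φ ᵥ* N' ^ (j + 1) := by
      have a1 : c N = (exists_coef hb).choose := dif_pos hb
      have a2 : c N' = (exists_coef hb').choose := dif_pos hb'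
      rw [← (exists_coef hb).choose_spec, ← (exists_coef hb').choose_spec, ← a1, ← a2, e2, e3]
    have e6 : N = N' := by
      have := e1
      rw [md, md, e3, e4, e5] at this
      exact add_right_cancel this
    rw [e4, e6]
  have hc := Finset.card_le_card_of_injOn (s := (bad φ j) ×ˢ (Finset.univ : Finset (ι → F)))
    (t := Finset.univ) f (fun _ _ => Finset.mem_univ _) hinj
  rw [Finset.card_product, Finset.card_univ, Finset.card_univ, Fintype.card_fun,
    Fintype.card_prod, Fintype.card_fun, Fintype.card_fin] at hc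
  have h5 : Fintype.card (Matrix ι ι F) = Fintype.card F ^ (Fintype.card ι * Fintype.card ι) := by
    change Fintype.card (ι → ι → F) = _
    rw [Fintype.card_fun, Fintype.card_fun, ← pow_mul]
  rw [h5] at hc
  exact hc

open Classical in
noncomputable def nc (φ : ι → F) : Finset (Matrix ι ι F) :=
  Finset.univ.filter fun N => ¬ LinearIndependent F (kr φ N (Fintype.card ι))

theorem nc_sub {φ : ι → F} (hφ : φ ≠ 0) :
    nc φ ⊆ (Finset.range (Fintype.card ι - 1)).biUnion (bad φ) := by
  classical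
  intro N hN
  have hN' := (Finset.mem_filter.1 hN).2
  by_contra hc
  have key : ∀ j : ℕ, j + 1 ≤ Fintype.card ι → LinearIndependent F (kr φ N (j + 1)) := by
    intro j
    induction j with
    | zero =>
      intro _
      change LinearIndependent F (kr φ N 1)
      have : Unique (Fin 1) := inferInstance
      rw [linearIndependent_unique_iff]
      simpa [kr] using hφ
    | succ j ih =>
      intro hj
      by_contra h2
      apply hc
      rw [Finset.mem_biUnion]
      exact ⟨j, Finset.mem_range.2 (by omega), Finset.mem_filter.2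
        ⟨Finset.mem_univ _, ih (by omega), h2⟩⟩
  have hpos : 0 < Fintype.card ι := by
    rw [Fintype.card_pos_iff]
    by_contra h
    rw [not_nonempty_iff] at h
    exact hφ (Subsingleton.elim _ _)
  obtain ⟨m, hm⟩ : ∃ m, Fintype.card ι = m + 1 := ⟨Fintype.card ι - 1, by omega⟩
  rw [hm] at hN'
  exact hN' (key m hm.ge)

theorem geom_lt {q : ℕ} (hq : 3 ≤ q) (m : ℕ) :
    2 * ∑ i ∈ Finset.range m, q ^ (i + 1) < q ^ (m + 1) := by
  induction m with
  | zero => simp; omega
  | succ m ih =>
    rw [Finset.sum_range_succ, mul_add, pow_succ q (m + 1)]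
    have : 3 * q ^ (m + 1) ≤ q ^ (m + 1) * q := by
      rw [mul_comm]; exact Nat.mul_le_mul_left _ hq
    omega

theorem two_nc_lt (hq : 3 ≤ Fintype.card F) {φ : ι → F} (hφ : φ ≠ 0) :
    2 * (nc φ).card < Fintype.card (Matrix ι ι F) := by
  classical
  have hpos : 0 < Fintype.card ι := by
    rw [Fintype.card_pos_iff]
    by_contra h
    rw [not_nonempty_iff] at h
    exact hφ (Subsingleton.elim _ _)
  set q := Fintype.card F with hqq
  set m := Fintype.card ι with hm
  have h5 : Fintype.card (Matrix ι ι F) = q ^ (m * m) := by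
    change Fintype.card (ι → ι → F) = _
    rw [Fintype.card_fun, Fintype.card_fun, ← pow_mul]
  have h1 : (nc φ).card * q ^ m ≤ q ^ (m * m) * ∑ i ∈ Finset.range (m - 1), q ^ (i + 1) := by
    calc (nc φ).card * q ^ m
        ≤ (∑ i ∈ Finset.range (m - 1), (bad φ i).card) * q ^ m := by
          apply Nat.mul_le_mul_right
          exact (Finset.card_le_card (nc_sub hφ)).trans Finset.card_biUnion_le
      _ = ∑ i ∈ Finset.range (m - 1), (bad φ i).card * q ^ m := by rw [Finset.sum_mul]
      _ ≤ ∑ i ∈ Finset.range (m - 1), q ^ (m * m) * q ^ (i + 1) :=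
          Finset.sum_le_sum fun i _ => card_bad φ i
      _ = _ := by rw [Finset.mul_sum]
  have h2 := geom_lt hq (m - 1)
  rw [Nat.sub_add_cancel hpos] at h2
  have h3 : 0 < q ^ (m * m) := by positivity
  rw [h5]
  by_contra hcon
  push Not at hcon
  have h6 : q ^ (m * m) * q ^ m ≤ q ^ (m * m) * (2 * ∑ i ∈ Finset.range (m - 1), q ^ (i + 1)) := by
    calc q ^ (m * m) * q ^ m ≤ (2 * (nc φ).card) * q ^ m := Nat.mul_le_mul_right _ hcon
      _ = 2 * ((nc φ).card * q ^ m) := by ring
      _ ≤ 2 * (q ^ (m * m) * ∑ i ∈ Finset.range (m - 1), q ^ (i + 1)) :=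
          Nat.mul_le_mul_left _ h1
      _ = _ := by ring
  have h7 := Nat.le_of_mul_le_mul_left h6 h3
  omega

theorem exists_two (hq : 3 ≤ Fintype.card F) {φ : ι → F} (hφ : φ ≠ 0) (B : Matrix ι ι F)
    (hB : IsUnit B.det) : ∃ N : Matrix ι ι F, Cyc φ N ∧ Cyc φ (B * N) := by
  classical
  have h1 : ((nc φ) ∪ (nc φ).image (fun N => B⁻¹ * N)).card < Fintype.card (Matrix ι ι F) := by
    refine lt_of_le_of_lt (Finset.card_union_le _ _) ?_
    have h2 := Finset.card_image_le (s := nc φ) (f := fun N => B⁻¹ * N)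
    have h3 := two_nc_lt hq hφ
    omega
  obtain ⟨N, hN⟩ : ∃ N, N ∉ ((nc φ) ∪ (nc φ).image (fun N => B⁻¹ * N)) := by
    by_contra hcon
    push Not at hcon
    have : ((nc φ) ∪ (nc φ).image (fun N => B⁻¹ * N)) = Finset.univ :=
      Finset.eq_univ_iff_forall.2 hcon
    rw [this, Finset.card_univ] at h1
    exact lt_irrefl _ h1
  rw [Finset.mem_union, not_or] at hN
  refine ⟨N, cyc_of_li ?_, cyc_of_li ?_⟩
  · by_contra h
    exact hN.1 (Finset.mem_filter.2 ⟨Finset.mem_univ _, h⟩)
  · by_contra h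
    apply hN.2
    rw [Finset.mem_image]
    refine ⟨B * N, Finset.mem_filter.2 ⟨Finset.mem_univ _, h⟩, ?_⟩
    rw [← Matrix.mul_assoc, Matrix.nonsing_inv_mul _ hB, Matrix.one_mul]

end Cfsg.Agent.H426.TL
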