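import Mathlib

set_option autoImplicit false

namespace Cfsg.Agent.H426.TL

open Matrix Polynomial

section Det

variable {R : Type*} [CommRing R] {n : Type*} [Fintype n] [DecidableEq n]

theorem det_add_vv_unit {M : Matrix n n R} (hM : IsUnit M.det) (u v : n → R) :
    (M + vecMulVec u v).det = M.det + v ⬝ᵥ (M.adjugate *ᵥ u) := by
  have h := det_add_replicateCol_mul_replicateRow (ι := Unit) hM u v
  rw [← vecMulVec_eq] at h
  have h1 : (1 + replicateRow Unit v * M⁻¹ * replicateCol Unit u).det
      = 1 + (replicateRow Unit v * M⁻¹ * replicateCol Unit u) default default := by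
    rw [det_unique, Matrix.add_apply, Matrix.one_apply_eq]
  rw [h, h1, mul_add, mul_one]
  congr 1
  have h2 : (replicateRow Unit v * M⁻¹ * replicateCol Unit u) default default
      = v ⬝ᵥ (M⁻¹ *ᵥ u) := by
    rw [Matrix.mul_assoc]
    rfl
  rw [h2, Matrix.inv_def, Matrix.smul_mulVec, dotProduct_smul, smul_eq_mul, ← mul_assoc,
    Ring.mul_inverse_cancel _ hM, one_mul]

theorem det_add_vv [IsDomain R] {M : Matrix n n R} (hM : M.det ≠ 0) (u v : n → R) :
    (M + vecMulVec u v).det = M.det + v ⬝ᵥ (M.adjugate *ᵥ u) := by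
  let K := FractionRing R
  let f : R →+* K := algebraMap R K
  have hf : Function.Injective f := IsFractionRing.injective R K
  apply hf
  have h1 : (M.map f).det ≠ 0 := by
    have : (M.map f).det = f M.det := (RingHom.map_det f M).symm
    rw [this]
    exact fun h => hM (hf (by rw [h, map_zero]))
  have h2 := det_add_vv_unit (M := M.map f) (isUnit_iff_ne_zero.2 h1) (f ∘ u) (f ∘ v)
  have h3 : M.map f + vecMulVec (f ∘ u) (f ∘ v) = (M + vecMulVec u v).map f := by
    ext i j
    simp [vecMulVec_apply]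
  rw [h3] at h2
  have h4 : ((M + vecMulVec u v).map f).det = f (M + vecMulVec u v).det :=
    (RingHom.map_det f _).symm
  have h5 : (M.map f).det = f M.det := (RingHom.map_det f M).symm
  have h6 : (M.map f).adjugate = M.adjugate.map f := (RingHom.map_adjugate f M).symm
  rw [h4, h5, h6] at h2
  rw [h2, map_add]
  congr 1
  simp [dotProduct, mulVec, map_sum]

end Det

variable {F : Type*} [Field F] {ι : Type*} [Fintype ι] [DecidableEq ι]

/-- observability -/
def Cyc (φ : ι → F) (N : Matrix ι ι F) : Prop :=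
  ∀ w : ι → F, (∀ k : ℕ, φ ⬝ᵥ ((N ^ k) *ᵥ w) = 0) → w = 0

/-- the polynomial `φ adj(t - N) v` -/
noncomputable def pl (φ : ι → F) (N : Matrix ι ι F) (v : ι → F) : F[X] :=
  (fun i => C (φ i)) ⬝ᵥ ((charmatrix N).adjugate *ᵥ (fun i => C (v i)))

theorem charpoly_add (φ : ι → F) (N : Matrix ι ι F) (v : ι → F) :
    (N + vecMulVec v φ).charpoly = N.charpoly - pl φ N v := by
  have h1 : charmatrix (N + vecMulVec v φ)
      = charmatrix N + vecMulVec (fun i => C (-v i)) (fun i => C (φ i)) := by
    ext i j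
    simp only [charmatrix_apply, Matrix.add_apply, vecMulVec_apply, map_add, map_mul, map_neg]
    ring_nf
  have h2 : (charmatrix N).det ≠ 0 := (Matrix.charpoly_monic N).ne_zero
  rw [Matrix.charpoly, h1, det_add_vv h2, Matrix.charpoly, sub_eq_add_neg, pl]
  congr 1
  have h3 : (fun i => C (-v i)) = -(fun i => (C (v i) : F[X])) := by
    ext1 i; simp
  rw [h3, mulVec_neg, dotProduct_neg]

theorem pl_add (φ : ι → F) (N : Matrix ι ι F) (v w : ι → F) :
    pl φ N (v + w) = pl φ N v + pl φ N w := by
  have h3 : (fun i => (C ((v + w) i) : F[X])) = (fun i => C (v i)) + (fun i => C (w i)) := by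
    ext1 i; simp
  rw [pl, h3, mulVec_add, dotProduct_add]; rfl

theorem pl_smul (φ : ι → F) (N : Matrix ι ι F) (c : F) (v : ι → F) :
    pl φ N (c • v) = c • pl φ N v := by
  have h3 : (fun i => (C ((c • v) i) : F[X])) = (C c : F[X]) • (fun i => C (v i)) := by
    ext1 i; simp
  rw [pl, h3, mulVec_smul, dotProduct_smul, smul_eq_mul, Polynomial.smul_eq_C_mul]; rfl

/-- `t φ adj v = φ adj N v + χ φ(v)` -/
theorem pl_shift (φ : ι → F) (N : Matrix ι ι F) (v : ι → F) :
    X * pl φ N v = pl φ N (N *ᵥ v) + N.charpoly * C (φ ⬝ᵥ v) := by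
  have h1 : (charmatrix N) *ᵥ (fun i => (C (v i) : F[X]))
      = (X : F[X]) • (fun i => C (v i)) - (fun i => C ((N *ᵥ v) i)) := by
    ext1 i
    simp only [mulVec, dotProduct, charmatrix_apply, Pi.sub_apply, Pi.smul_apply, smul_eq_mul,
      sub_mul, Finset.sum_sub_distrib, map_sum, map_mul]
    congr 1
    rw [Finset.sum_eq_single i]
    · simp
    · intro j _ hj
      simp [diagonal_apply_ne _ hj.symm]
    · simp
  have h2 : (charmatrix N).adjugate *ᵥ ((charmatrix N) *ᵥ (fun i => (C (v i) : F[X])))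
      = (charmatrix N).det • (fun i => (C (v i) : F[X])) := by
    rw [mulVec_mulVec, adjugate_mul, smul_mulVec, one_mulVec]
  rw [h1, mulVec_sub, mulVec_smul] at h2
  have h3 := congrArg (fun z => (fun i => (C (φ i) : F[X])) ⬝ᵥ z) h2
  simp only [dotProduct_sub, dotProduct_smul, smul_eq_mul] at h3
  have h4 : (fun i => (C (φ i) : F[X])) ⬝ᵥ (fun i => C (v i)) = C (φ ⬝ᵥ v) := by
    simp [dotProduct, map_sum]
  rw [h4] at h3
  change X * pl φ N v - pl φ N (N *ᵥ v) = N.charpoly * C (φ ⬝ᵥ v) at h3
  rw [← h3]; ring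

theorem natDegree_adj (N : Matrix ι ι F) (i j : ι) :
    ((charmatrix N).adjugate i j).natDegree ≤ Fintype.card ι - 1 := by
  rw [adjugate_apply, det_apply]
  apply natDegree_sum_le_of_forall_le
  intro σ _
  refine (natDegree_smul_le _ _).trans ?_
  refine (natDegree_prod_le _ _).trans ?_
  -- the factor in row `j` is constant
  obtain ⟨k, hk⟩ : ∃ k, σ k = j := ⟨σ.symm j, by simp⟩
  rw [← Finset.add_sum_erase _ _ (Finset.mem_univ k)]
  have h1 : ((charmatrix N).updateRow j (Pi.single i 1) (σ k) k).natDegree = 0 := by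
    rw [hk, updateRow_self]
    by_cases h : k = i
    · subst h; simp
    · rw [Pi.single_eq_of_ne h]; simp
  rw [h1, zero_add]
  calc ∑ x ∈ Finset.univ.erase k, ((charmatrix N).updateRow j (Pi.single i 1) (σ x) x).natDegree
      ≤ ∑ x ∈ Finset.univ.erase k, 1 := by
        apply Finset.sum_le_sum
        intro x hx
        have hx' : σ x ≠ j := by
          intro h
          apply (Finset.mem_erase.1 hx).1
          apply σ.injective
          rw [h, hk]
        rw [updateRow_ne hx']
        refine (charmatrix_apply_natDegree_le (M := N) (σ x) x).trans ?_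
        split_ifs <;> simp
    _ = Fintype.card ι - 1 := by
        rw [Finset.sum_const, Finset.card_erase_of_mem (Finset.mem_univ k), Finset.card_univ]
        simp

theorem natDegree_pl (φ : ι → F) (N : Matrix ι ι F) (v : ι → F) :
    (pl φ N v).natDegree ≤ Fintype.card ι - 1 := by
  rw [pl, dotProduct]
  apply natDegree_sum_le_of_forall_le
  intro i _
  refine (natDegree_C_mul_le _ _).trans ?_
  rw [mulVec, dotProduct]
  apply natDegree_sum_le_of_forall_le
  intro j _
  refine (natDegree_mul_C_le _ _).trans ?_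
  exact natDegree_adj N i j

theorem degree_pl_lt [Nonempty ι] (φ : ι → F) (N : Matrix ι ι F) (v : ι → F) :
    (pl φ N v).degree < (Fintype.card ι : ℕ) := by
  have h := natDegree_pl φ N v
  have h2 : 0 < Fintype.card ι := Fintype.card_pos
  refine (degree_le_natDegree).trans_lt ?_
  exact_mod_cast (by omega : (pl φ N v).natDegree < Fintype.card ι)

theorem pl_inj [Nonempty ι] {φ : ι → F} {N : Matrix ι ι F} (h : Cyc φ N) {v : ι → F}
    (hv : pl φ N v = 0) : v = 0 := by
  apply h
  have key : ∀ w : ι → F, pl φ N w = 0 → pl φ N (N *ᵥ w) = 0 ∧ φ ⬝ᵥ w = 0 := by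
    intro w hw
    have h1 := pl_shift φ N w
    rw [hw, mul_zero] at h1
    by_cases h2 : φ ⬝ᵥ w = 0
    · rw [h2, map_zero, mul_zero, add_zero] at h1
      exact ⟨h1.symm, h2⟩
    · exfalso
      have h3 : pl φ N (N *ᵥ w) = -(N.charpoly * C (φ ⬝ᵥ w)) := by
        rw [eq_neg_iff_add_eq_zero, ← h1]
      have h4 := degree_pl_lt φ N (N *ᵥ w)
      rw [h3, degree_neg, degree_mul, degree_C h2, add_zero,
        Matrix.charpoly_degree_eq_dim] at h4
      exact lt_irrefl _ h4
  have key2 : ∀ k : ℕ, pl φ N ((N ^ k) *ᵥ v) = 0 := by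
    intro k
    induction k with
    | zero => simpa using hv
    | succ k ih =>
      rw [pow_succ', ← mulVec_mulVec]
      exact (key _ ih).1
  intro k
  exact (key _ (key2 k)).2

/-- pole placement -/
theorem exists_pl [Nonempty ι] {φ : ι → F} {N : Matrix ι ι F} (h : Cyc φ N) (p : F[X])
    (hp : p.degree < (Fintype.card ι : ℕ)) : ∃ v, pl φ N v = p := by
  let L : (ι → F) →ₗ[F] (degreeLT F (Fintype.card ι)) :=
    { toFun := fun v => ⟨pl φ N v, mem_degreeLT.2 (degree_pl_lt φ N v)⟩
      map_add' := fun v w => Subtype.ext (pl_add φ N v w)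
      map_smul' := fun c v => Subtype.ext (pl_smul φ N c v) }
  have hL : Function.Injective L := by
    rw [← LinearMap.ker_eq_bot, LinearMap.ker_eq_bot']
    intro v hv
    exact pl_inj h (congrArg Subtype.val hv)
  have hfr : Module.finrank F (ι → F) = Module.finrank F (degreeLT F (Fintype.card ι)) := by
    rw [Module.finrank_pi, (degreeLTEquiv F (Fintype.card ι)).finrank_eq, Module.finrank_fin_fun]
  have hfd : FiniteDimensional F (degreeLT F (Fintype.card ι)) :=
    Module.Finite.equiv (degreeLTEquiv F (Fintype.card ι)).symm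
  have hs : Function.Surjective L :=
    (LinearMap.injective_iff_surjective_of_finrank_eq_finrank hfr).1 hL
  obtain ⟨v, hv⟩ := hs ⟨p, mem_degreeLT.2 hp⟩
  exact ⟨v, congrArg Subtype.val hv⟩

theorem exists_charpoly [Nonempty ι] {φ : ι → F} {N : Matrix ι ι F} (h : Cyc φ N) (p : F[X])
    (hp : p.Monic) (hd : p.natDegree = Fintype.card ι) :
    ∃ v, (N + vecMulVec v φ).charpoly = p := by
  have h1 : (N.charpoly - p).degree < (Fintype.card ι : ℕ) := by
    have := degree_sub_lt_left (p := N.charpoly) (q := p)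
      (by rw [Matrix.charpoly_degree_eq_dim, degree_eq_natDegree hp.ne_zero, hd])
      (Matrix.charpoly_monic N).ne_zero
      (by rw [(Matrix.charpoly_monic N).leadingCoeff, hp.leadingCoeff])
    rwa [Matrix.charpoly_degree_eq_dim] at this
  obtain ⟨v, hv⟩ := exists_pl h _ h1
  exact ⟨v, by rw [charpoly_add, hv]; ring⟩

/-- feedback does not change observability -/
theorem Cyc.feed {φ : ι → F} {N : Matrix ι ι F} (h : Cyc φ N) (v : ι → F) :
    Cyc φ (N + vecMulVec v φ) := by
  intro w hw
  have key : ∀ k : ℕ, ((N + vecMulVec v φ) ^ k) *ᵥ w = (N ^ k) *ᵥ w := by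
    intro k
    induction k with
    | zero => simp
    | succ k ih =>
      have h0 := hw k
      rw [pow_succ', ← mulVec_mulVec, ih, add_mulVec, pow_succ', ← mulVec_mulVec]
      rw [ih] at h0
      have : vecMulVec v φ *ᵥ (N ^ k *ᵥ w) = 0 := by
        ext i
        simp only [mulVec, vecMulVec_apply, dotProduct, Pi.zero_apply]
        have : ∑ x, v i * φ x * (∑ x_1, (N ^ k) x x_1 * w x_1)
            = v i * ∑ x, φ x * (∑ x_1, (N ^ k) x x_1 * w x_1) := by
          rw [Finset.mul_sum]; simp [mul_assoc]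
        rw [this]
        have h5 : ∑ x, φ x * (∑ x_1, (N ^ k) x x_1 * w x_1) = 0 := h0
        rw [h5, mul_zero]
      rw [this, add_zero]
  apply h
  intro k
  rw [← key k]
  exact hw k

end Cfsg.Agent.H426.TL
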