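import Cfsg.Agent.H426.TL.Cnt

set_option autoImplicit false
set_option linter.unusedSectionVars false

namespace Cfsg.Agent.H426.TL

open Matrix Polynomial

section A

variable {F : Type*} [Field F] {ι : Type*} [Fintype ι] [DecidableEq ι]

theorem det_eq_of_coeff {N : Matrix ι ι F} {N' : Matrix ι ι F}
    (h : N.charpoly.coeff 0 = N'.charpoly.coeff 0) : N.det = N'.det := by
  rw [det_eq_sign_charpoly_coeff, det_eq_sign_charpoly_coeff, h]

/-- the core: from a factorization with `φ` observable for `X₀` and a left eigenvector of `Y₀` -/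
theorem core [Nonempty ι] {X₀ Y₀ : Matrix ι ι F} {φ : ι → F} (hX : IsUnit X₀.det)
    (hc : Cyc φ X₀) {y : F} (hy : φ ᵥ* Y₀ = y • φ) {f : F[X]} (hf : f.Monic)
    (hfd : f.natDegree = Fintype.card ι) (h0 : f.coeff 0 = X₀.charpoly.coeff 0) :
    ∃ P Q : Matrix ι ι F, P * Q = X₀ * Y₀ ∧ P.charpoly = f ∧ Q.charpoly = Y₀.charpoly := by
  obtain ⟨v, hv⟩ := exists_charpoly hc f hf hfd
  let u : ι → F := X₀⁻¹ *ᵥ v
  have hXu : X₀ *ᵥ u = v := by
    rw [mulVec_mulVec, mul_nonsing_inv _ hX, one_mulVec]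
  have hfac : X₀ + vecMulVec v φ = X₀ * (1 + vecMulVec u φ) := by
    rw [Matrix.mul_add, Matrix.mul_one, mul_vecMulVec, hXu]
  have hdet : (X₀ + vecMulVec v φ).det = X₀.det := by
    apply det_eq_of_coeff
    rw [hv, h0]
  have hd1 : (1 + vecMulVec u φ).det = 1 + φ ⬝ᵥ u := by
    have := det_one_add_replicateCol_mul_replicateRow (ι := Unit) u φ
    rwa [← vecMulVec_eq] at this
  have hu : φ ⬝ᵥ u = 0 := by
    rw [hfac, det_mul, hd1] at hdet
    have : X₀.det * (φ ⬝ᵥ u) = 0 := by linear_combination hdet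
    exact (mul_eq_zero.1 this).resolve_left hX.ne_zero
  have hsq : vecMulVec u φ * vecMulVec u φ = 0 := by
    rw [vecMulVec_mul_vecMulVec, hu, zero_smul, vecMulVec_zero]
  refine ⟨X₀ + vecMulVec v φ, (1 - vecMulVec u φ) * Y₀, ?_, hv, ?_⟩
  · rw [hfac, Matrix.mul_assoc, ← Matrix.mul_assoc (1 + vecMulVec u φ)]
    have : (1 + vecMulVec u φ) * (1 - vecMulVec u φ) = 1 := by
      rw [Matrix.add_mul, Matrix.mul_sub, Matrix.mul_sub, hsq]
      simp
    rw [this, Matrix.one_mul]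
  · have h1 : (1 - vecMulVec u φ) * Y₀ = Y₀ + vecMulVec (-(y • u)) φ := by
      rw [Matrix.sub_mul, Matrix.one_mul, vecMulVec_mul, hy]
      ext i j
      simp [vecMulVec_apply]
      ring
    rw [h1, charpoly_add]
    have h2 : pl φ Y₀ (-(y • u)) = -y • pl φ Y₀ u := by
      rw [← neg_smul, pl_smul]
    rw [h2]
    suffices h3 : pl φ Y₀ u = 0 by rw [h3, smul_zero, sub_zero]
    -- `(t - y) φ adj u = χ φ(u) = 0`
    have h4 : (fun i => (C (φ i) : F[X])) ᵥ* charmatrix Y₀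
        = ((X : F[X]) - C y) • (fun i => (C (φ i) : F[X])) := by
      ext1 j
      have hyj := congrFun hy j
      simp only [vecMul, dotProduct, Pi.smul_apply, smul_eq_mul] at hyj
      simp only [vecMul, dotProduct, charmatrix_apply, Pi.smul_apply, smul_eq_mul, mul_sub,
        Finset.sum_sub_distrib]
      rw [Finset.sum_eq_single j]
      · rw [diagonal_apply_eq, sub_mul]
        congr 1
        · ring
        · rw [← map_mul, ← hyj, map_sum]
          simp [map_mul]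
      · intro i _ hij
        simp [diagonal_apply_ne _ hij]
      · simp
    have h5 : ((X : F[X]) - C y) * pl φ Y₀ u = 0 := by
      have h6 : ((fun i => (C (φ i) : F[X])) ᵥ* charmatrix Y₀) ⬝ᵥ
          ((charmatrix Y₀).adjugate *ᵥ (fun i => (C (u i) : F[X]))) = 0 := by
        rw [← dotProduct_mulVec, mulVec_mulVec, mul_adjugate, smul_mulVec, one_mulVec,
          dotProduct_smul]
        have : (fun i => (C (φ i) : F[X])) ⬝ᵥ (fun i => C (u i)) = C (φ ⬝ᵥ u) := by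
          simp [dotProduct, map_sum]
        rw [this, hu, map_zero, smul_zero]
      rw [h4, smul_dotProduct, smul_eq_mul] at h6
      exact h6
    exact (mul_eq_zero.1 h5).resolve_left (X_sub_C_ne_zero y)

end A

section B

variable {F : Type*} [Field F] [Fintype F] {ι : Type*} [Fintype ι] [DecidableEq ι]

/-- lemma S2 -/
theorem stwo [Nonempty ι] (hq : 3 ≤ Fintype.card F) {B : Matrix ι ι F} (hB : IsUnit B.det)
    {φ : ι → F} (hφ : φ ≠ 0) {g : F[X]} (hg : g.Monic) (hgd : g.natDegree = Fintype.card ι)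
    (hg0 : g.coeff 0 ≠ 0) :
    ∃ X' Y' : Matrix ι ι F, X' * Y' = B ∧ Y'.charpoly = g ∧ Cyc φ X' := by
  classical
  -- a matrix with characteristic polynomial `g`
  obtain ⟨N, hN1, hN2⟩ := exists_two hq hφ B⁻¹ ((Matrix.isUnit_nonsing_inv_det_iff).2 hB)
  obtain ⟨c, hc⟩ := exists_charpoly hN1 g hg hgd
  obtain ⟨D, hD⟩ : ∃ D : Matrix ι ι F, D = N + vecMulVec c φ := ⟨_, rfl⟩
  rw [← hD] at hc
  have hDdet : IsUnit D.det := by
    rw [isUnit_iff_ne_zero, det_eq_sign_charpoly_coeff, hc]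
    exact mul_ne_zero (pow_ne_zero _ (by simp)) hg0
  -- place the inverse
  obtain ⟨v', hv'⟩ := exists_charpoly hN2 (D⁻¹).charpoly (Matrix.charpoly_monic _)
    (Matrix.charpoly_natDegree_eq_dim _)
  obtain ⟨v, hv⟩ : ∃ v, v = B *ᵥ v' := ⟨_, rfl⟩
  have h1 : B⁻¹ * (N + vecMulVec v φ) = B⁻¹ * N + vecMulVec v' φ := by
    rw [Matrix.mul_add, mul_vecMulVec, hv, mulVec_mulVec, nonsing_inv_mul _ hB, one_mulVec]
  obtain ⟨K, hK⟩ : ∃ K, K = B⁻¹ * (N + vecMulVec v φ) := ⟨_, rfl⟩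
  have hKc : K.charpoly = (D⁻¹).charpoly := by rw [hK, h1, hv']
  have hDi : IsUnit (D⁻¹).det := (Matrix.isUnit_nonsing_inv_det_iff).2 hDdet
  have hKd : K.det = (D⁻¹).det := det_eq_of_coeff (by rw [hKc])
  have hKdet : IsUnit K.det := by rw [hKd]; exact hDi
  refine ⟨N + vecMulVec v φ, K⁻¹, ?_, ?_, hN1.feed v⟩
  · have : N + vecMulVec v φ = B * K := by
      rw [hK, ← Matrix.mul_assoc, mul_nonsing_inv _ hB, Matrix.one_mul]
    rw [this, Matrix.mul_assoc, mul_nonsing_inv _ hKdet, Matrix.mul_one]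
  · have h2 := Matrix.charpoly_inv K ((Matrix.isUnit_iff_isUnit_det _).2 hKdet)
    have h3 := Matrix.charpoly_inv D⁻¹ ((Matrix.isUnit_iff_isUnit_det _).2 hDi)
    rw [h2, ← Matrix.reverse_charpoly, hKc, hKd, Matrix.reverse_charpoly, ← h3,
      Matrix.nonsing_inv_nonsing_inv _ hDdet, hc]

/-- the functional of the last coordinate -/
def lastφ : ι ⊕ Unit → F := Sum.elim 0 1

theorem cyc_block {X' : Matrix ι ι F} {ρ : ι → F} (h : Cyc ρ X') (x : Matrix Unit Unit F) :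
    Cyc (lastφ : ι ⊕ Unit → F) (fromBlocks X' 0 (replicateRow Unit ρ) x) := by
  intro w hw
  obtain ⟨w1, w2, rfl⟩ : ∃ (w1 : ι → F) (w2 : Unit → F), w = Sum.elim w1 w2 :=
    ⟨w ∘ Sum.inl, w ∘ Sum.inr, (Sum.elim_comp_inl_inr w).symm⟩
  have hl : ∀ (z1 : ι → F) (z2 : Unit → F),
      (lastφ : ι ⊕ Unit → F) ⬝ᵥ (Sum.elim z1 z2) = z2 () := by
    intro z1 z2
    simp [lastφ, dotProduct]
  have key : ∀ k : ℕ, (fromBlocks X' 0 (replicateRow Unit ρ) x) ^ k *ᵥ (Sum.elim w1 w2)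
      = Sum.elim (X' ^ k *ᵥ w1) 0 := by
    intro k
    induction k with
    | zero =>
      have h0 := hw 0
      rw [pow_zero, one_mulVec, hl] at h0
      rw [pow_zero, one_mulVec, pow_zero, one_mulVec]
      congr 1
      funext u
      exact h0
    | succ k ih =>
      have h0 := hw (k + 1)
      rw [pow_succ', ← mulVec_mulVec, ih, fromBlocks_mulVec] at h0 ⊢
      rw [hl] at h0
      have h1 : (Sum.elim (X' ^ k *ᵥ w1) (0 : Unit → F)) ∘ Sum.inl = X' ^ k *ᵥ w1 := by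
        funext i; rfl
      have h2 : (Sum.elim (X' ^ k *ᵥ w1) (0 : Unit → F)) ∘ Sum.inr = 0 := by
        funext i; rfl
      rw [h1, h2] at h0 ⊢
      rw [mulVec_zero, add_zero] at h0
      congr 1
      · rw [mulVec_zero, add_zero, mulVec_mulVec, ← pow_succ']
      · funext u
        rw [mulVec_zero, add_zero]
        exact h0
  have h3 : w1 = 0 := by
    apply h
    intro k
    have h0 := hw (k + 1)
    rw [pow_succ', ← mulVec_mulVec, key k, fromBlocks_mulVec, hl] at h0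
    have h1 : (Sum.elim (X' ^ k *ᵥ w1) (0 : Unit → F)) ∘ Sum.inl = X' ^ k *ᵥ w1 := by
      funext i; rfl
    have h2 : (Sum.elim (X' ^ k *ᵥ w1) (0 : Unit → F)) ∘ Sum.inr = 0 := by
      funext i; rfl
    rw [h1, h2, mulVec_zero, add_zero] at h0
    exact h0
  have h4 := key 0
  rw [pow_zero, one_mulVec, pow_zero, one_mulVec, h3] at h4
  rw [h3, h4]
  funext i
  cases i <;> rfl

theorem blk [Nonempty ι] (hq : 3 ≤ Fintype.card F) {A' : Matrix ι ι F} {c : Matrix ι Unit F}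
    {r : Matrix Unit ι F} {a : Matrix Unit Unit F} (hA' : IsUnit A'.det) (hr : r ≠ 0)
    (hA : IsUnit (fromBlocks A' c r a).det) {f g : F[X]} {y : F} (hf : f.Monic)
    (hfd : f.natDegree = Fintype.card ι + 1) (hg : g.Monic) (hgd : g.natDegree = Fintype.card ι)
    (hfg : f.coeff 0 * (-(y * g.coeff 0)) = (fromBlocks A' c r a).det) :
    ∃ P Q : Matrix (ι ⊕ Unit) (ι ⊕ Unit) F, P * Q = fromBlocks A' c r a ∧ P.charpoly = f ∧
      Q.charpoly = (X - C y) * g := by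
  have hne := hA.ne_zero
  rw [← hfg] at hne
  have hyg : y * g.coeff 0 ≠ 0 := by
    intro h; apply hne; rw [h]; simp
  have hy : y ≠ 0 := left_ne_zero_of_mul hyg
  have hg0 : g.coeff 0 ≠ 0 := right_ne_zero_of_mul hyg
  have hφ : (fun j => (r * A'⁻¹) () j) ≠ 0 := by
    intro h
    apply hr
    have h1 : r * A'⁻¹ = 0 := by
      ext i j
      exact congrFun h j
    have h2 : r = r * A'⁻¹ * A' := by
      rw [Matrix.mul_assoc, nonsing_inv_mul _ hA', Matrix.mul_one]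
    rw [h2, h1, Matrix.zero_mul]
  obtain ⟨X', Y', hXY, hYc, hcyc⟩ := stwo hq hA' hφ hg hgd hg0
  have hX' : IsUnit X'.det := by
    rw [← hXY, det_mul] at hA'
    exact isUnit_of_mul_isUnit_left hA'
  have hY' : IsUnit Y'.det := by
    rw [← hXY, det_mul] at hA'
    exact isUnit_of_mul_isUnit_right hA'
  have hinv : A'⁻¹ * X' = Y'⁻¹ := by
    rw [← hXY, Matrix.mul_inv_rev, Matrix.mul_assoc, nonsing_inv_mul _ hX', Matrix.mul_one]
  have hρ : Cyc (fun j => (r * Y'⁻¹) () j) X' := by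
    intro w hw
    have h1 : X' *ᵥ w = 0 := by
      apply hcyc
      intro k
      have h2 := hw k
      have h3 : (fun j => (r * Y'⁻¹) () j) = (fun j => (r * A'⁻¹) () j) ᵥ* X' := by
        rw [← hinv, ← Matrix.mul_assoc]
        rfl
      rw [h3, ← dotProduct_mulVec, mulVec_mulVec, ← pow_succ'] at h2
      rw [mulVec_mulVec, ← pow_succ]
      exact h2
    have h4 : w = X'⁻¹ *ᵥ (X' *ᵥ w) := by
      rw [mulVec_mulVec, nonsing_inv_mul _ hX', one_mulVec]
    rw [h4, h1, mulVec_zero]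
  -- the blocks
  obtain ⟨x, hx⟩ : ∃ x : Matrix Unit Unit F, x = y⁻¹ • (a - r * A'⁻¹ * c) := ⟨_, rfl⟩
  obtain ⟨X₀, hX₀⟩ : ∃ X₀ : Matrix (ι ⊕ Unit) (ι ⊕ Unit) F,
    X₀ = fromBlocks X' 0 (replicateRow Unit (fun j => (r * Y'⁻¹) () j)) x := ⟨_, rfl⟩
  obtain ⟨Y₀, hY₀⟩ : ∃ Y₀ : Matrix (ι ⊕ Unit) (ι ⊕ Unit) F,
    Y₀ = fromBlocks Y' (X'⁻¹ * c) 0 (y • (1 : Matrix Unit Unit F)) := ⟨_, rfl⟩
  have hrow : replicateRow Unit (fun j => (r * Y'⁻¹) () j) = r * Y'⁻¹ := by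
    ext i j; rfl
  have hprod : X₀ * Y₀ = fromBlocks A' c r a := by
    rw [hX₀, hY₀, hrow, fromBlocks_multiply]
    congr 1
    · rw [Matrix.zero_mul, add_zero, hXY]
    · rw [Matrix.zero_mul, add_zero, ← Matrix.mul_assoc, mul_nonsing_inv _ hX', Matrix.one_mul]
    · rw [Matrix.mul_zero, add_zero, Matrix.mul_assoc, nonsing_inv_mul _ hY', Matrix.mul_one]
    · have h1 : r * Y'⁻¹ * (X'⁻¹ * c) = r * A'⁻¹ * c := by
        rw [← hXY, Matrix.mul_inv_rev]
        simp only [Matrix.mul_assoc]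
      rw [h1, hx, Matrix.mul_smul, Matrix.mul_one, smul_smul, mul_inv_cancel₀ hy, one_smul]
      abel
  have hdd : X₀.det * Y₀.det = (fromBlocks A' c r a).det := by rw [← det_mul, hprod]
  have hX₀u : IsUnit X₀.det := by
    rw [← hdd] at hA
    exact isUnit_of_mul_isUnit_left hA
  have hYc₀ : Y₀.charpoly = (X - C y) * g := by
    rw [hY₀, charpoly_fromBlocks_zero₂₁, hYc, mul_comm]
    congr 1
    rw [Matrix.charpoly, det_unique]
    simp
  have hcard : Fintype.card (ι ⊕ Unit) = Fintype.card ι + 1 := by simp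
  have h0 : f.coeff 0 = X₀.charpoly.coeff 0 := by
    have h1 : X₀.charpoly.coeff 0 * Y₀.charpoly.coeff 0 = (fromBlocks A' c r a).det := by
      rw [← hdd, det_eq_sign_charpoly_coeff X₀, det_eq_sign_charpoly_coeff Y₀]
      have : ((-1 : F) ^ Fintype.card (ι ⊕ Unit)) * ((-1 : F) ^ Fintype.card (ι ⊕ Unit)) = 1 := by
        rw [← mul_pow]; simp
      linear_combination (-(X₀.charpoly.coeff 0 * Y₀.charpoly.coeff 0)) * this
    have h2 : Y₀.charpoly.coeff 0 = -(y * g.coeff 0) := by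
      rw [hYc₀, mul_coeff_zero]; simp
    rw [h2, ← hfg] at h1
    exact (mul_right_cancel₀ (neg_ne_zero.2 hyg) h1).symm
  have hleft : (lastφ : ι ⊕ Unit → F) ᵥ* Y₀ = y • (lastφ : ι ⊕ Unit → F) := by
    rw [hY₀, lastφ, vecMul_fromBlocks]
    funext i
    cases i with
    | inl i => simp
    | inr i => simp [vecMul, dotProduct]
  obtain ⟨P, Q, h1, h2, h3⟩ := core hX₀u (by rw [hX₀]; exact cyc_block hρ x) hleft hf
    (by rw [hfd, hcard]) h0
  exact ⟨P, Q, by rw [h1, hprod], h2, by rw [h3, hYc₀]⟩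

end B

section C

variable {F : Type*} [Field F] {κ : Type*} [Fintype κ] [DecidableEq κ]

/-- a nonscalar matrix has a row vector which is not a left eigenvector -/
theorem exists_not_eig {A : Matrix κ κ F} (hns : ∀ a : F, A ≠ a • 1) :
    ∃ φ : κ → F, ∀ a : F, φ ᵥ* A ≠ a • φ := by
  by_contra hcon
  push Not at hcon
  obtain ⟨a, ha⟩ := LinearMap.exists_eq_smul_id_of_forall_notLinearIndependent
    (f := Matrix.vecMulLinear A) (R := F) (V := κ → F) (by
      intro v hv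
      obtain ⟨a, ha⟩ := hcon v
      rw [LinearIndependent.pair_iff] at hv
      have := hv a (-1) (by
        change a • v + (-1 : F) • (v ᵥ* A) = 0
        rw [ha]; simp)
      exact absurd this.2 (by simp))
  apply hns a
  ext i j
  have h1 := congrArg (fun g => g (Pi.single i 1) j) ha
  simp only [Matrix.vecMulLinear_apply, LinearMap.smul_apply, Module.End.one_apply,
    single_one_vecMul] at h1
  rw [Matrix.smul_apply, Matrix.one_apply]
  have h2 : A i j = (a • (Pi.single i (1 : F) : κ → F)) j := h1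
  rw [h2, Pi.smul_apply, Pi.single_apply]
  congr 1
  by_cases h : i = j
  · subst h; simp
  · rw [if_neg h, if_neg (Ne.symm h)]

theorem exists_ne {φ : κ → F} (h : φ ≠ 0) : ∃ e, φ ⬝ᵥ e ≠ 0 := by
  by_contra hcon
  push Not at hcon
  apply h
  ext i
  have := hcon (Pi.single i 1)
  simpa using this

theorem exists_ne_ne {φ ψ : κ → F} (hφ : φ ≠ 0) (hψ : ψ ≠ 0) :
    ∃ e, φ ⬝ᵥ e ≠ 0 ∧ ψ ⬝ᵥ e ≠ 0 := by
  obtain ⟨e1, h1⟩ := exists_ne hφ
  obtain ⟨e2, h2⟩ := exists_ne hψ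
  by_cases h3 : ψ ⬝ᵥ e1 = 0
  · by_cases h4 : φ ⬝ᵥ e2 = 0
    · exact ⟨e1 + e2, by rw [dotProduct_add, h4, add_zero]; exact h1,
        by rw [dotProduct_add, h3, zero_add]; exact h2⟩
    · exact ⟨e2, h4, h2⟩
  · exact ⟨e1, h1, h3⟩

theorem det_one_add_vv (u v : κ → F) : (1 + vecMulVec u v).det = 1 + v ⬝ᵥ u := by
  have := det_one_add_replicateCol_mul_replicateRow (ι := Unit) u v
  rwa [← vecMulVec_eq] at this

theorem vv_mulVec (u v x : κ → F) : vecMulVec u v *ᵥ x = (v ⬝ᵥ x) • u := by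
  ext i
  simp only [mulVec, dotProduct, vecMulVec_apply, Pi.smul_apply, smul_eq_mul, Finset.sum_mul]
  exact Finset.sum_congr rfl fun k _ => by ring

/-- an invertible matrix moving `(φ, e)` to `(l, ε)` -/
theorem exists_P {φ l e ε : κ → F} (h1 : φ ⬝ᵥ e = 1) (h2 : l ⬝ᵥ ε = 1) :
    ∃ P : Matrix κ κ F, IsUnit P.det ∧ φ ᵥ* P = l ∧ P *ᵥ ε = e := by
  have hφ : φ ≠ 0 := by rintro rfl; simp at h1
  have hl : l ≠ 0 := by rintro rfl; simp at h2
  obtain ⟨d, hd1, hd2⟩ := exists_ne_ne hφ hl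
  obtain ⟨P1, hP1⟩ : ∃ P1 : Matrix κ κ F, P1 = 1 + vecMulVec ((φ ⬝ᵥ d)⁻¹ • d) (l - φ) := ⟨_, rfl⟩
  have hP1d : IsUnit P1.det := by
    rw [hP1, det_one_add_vv, isUnit_iff_ne_zero, dotProduct_smul, sub_dotProduct, smul_eq_mul,
      mul_sub, inv_mul_cancel₀ hd1]
    rw [add_sub_cancel]
    exact mul_ne_zero (inv_ne_zero hd1) hd2
  have hφP1 : φ ᵥ* P1 = l := by
    rw [hP1, vecMul_add, vecMul_one, vecMul_vv, dotProduct_smul, smul_eq_mul,
      inv_mul_cancel₀ hd1, one_smul]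
    abel
  obtain ⟨e1, he1⟩ : ∃ e1, e1 = P1⁻¹ *ᵥ e := ⟨_, rfl⟩
  have hle1 : l ⬝ᵥ e1 = 1 := by
    rw [← hφP1, he1, ← dotProduct_mulVec, mulVec_mulVec, mul_nonsing_inv _ hP1d, one_mulVec, h1]
  have hz : l ⬝ᵥ (e1 - ε) = 0 := by rw [dotProduct_sub, hle1, h2, sub_self]
  refine ⟨P1 * (1 + vecMulVec (e1 - ε) l), ?_, ?_, ?_⟩
  · rw [det_mul, det_one_add_vv, hz, add_zero, mul_one]
    exact hP1d
  · rw [← vecMul_vecMul, hφP1, vecMul_add, vecMul_one, vecMul_vv, hz, zero_smul, add_zero]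
  · rw [← mulVec_mulVec, add_mulVec, one_mulVec, vv_mulVec, h2, one_smul, add_sub_cancel, he1,
      mulVec_mulVec, mul_nonsing_inv _ hP1d, one_mulVec]

end C

section D

variable {F : Type*} [Field F] [Fintype F] {ι : Type*} [Fintype ι] [DecidableEq ι]

theorem lastφ_dot (z1 : ι → F) (z2 : Unit → F) :
    (lastφ : ι ⊕ Unit → F) ⬝ᵥ (Sum.elim z1 z2) = z2 () := by
  simp [lastφ, dotProduct]

theorem charpoly_conj' {κ : Type*} [Fintype κ] [DecidableEq κ] {P : Matrix κ κ F}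
    (hP : IsUnit P.det) (M : Matrix κ κ F) : (P * M * P⁻¹).charpoly = M.charpoly := by
  obtain ⟨U, hU⟩ := (Matrix.isUnit_iff_isUnit_det P).2 hP
  have := Matrix.charpoly_units_conj U M
  rw [hU] at this
  exact this

theorem main_sum [Nonempty ι] (hq : 3 ≤ Fintype.card F) {A : Matrix (ι ⊕ Unit) (ι ⊕ Unit) F}
    (hA : IsUnit A.det) (hns : ∀ a : F, A ≠ a • 1) {f g : F[X]} {y : F} (hf : f.Monic)
    (hfd : f.natDegree = Fintype.card ι + 1) (hg : g.Monic) (hgd : g.natDegree = Fintype.card ι)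
    (hfg : f.coeff 0 * (-(y * g.coeff 0)) = A.det) :
    ∃ P Q : Matrix (ι ⊕ Unit) (ι ⊕ Unit) F, P * Q = A ∧ P.charpoly = f ∧
      Q.charpoly = (X - C y) * g := by
  obtain ⟨φ0, hφ0⟩ := exists_not_eig hns
  have hφ0' : φ0 ≠ 0 := by
    rintro rfl
    exact hφ0 0 (by simp)
  have hψ0 : φ0 ᵥ* A⁻¹ ≠ 0 := by
    intro h
    apply hφ0'
    have : φ0 = (φ0 ᵥ* A⁻¹) ᵥ* A := by
      rw [vecMul_vecMul, nonsing_inv_mul _ hA, vecMul_one]
    rw [this, h, zero_vecMul]
  obtain ⟨e0, he1, he2⟩ := exists_ne_ne hφ0' hψ0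
  obtain ⟨φ, hφ⟩ : ∃ φ, φ = (φ0 ⬝ᵥ e0)⁻¹ • φ0 := ⟨_, rfl⟩
  have hφe : φ ⬝ᵥ e0 = 1 := by
    rw [hφ, smul_dotProduct, smul_eq_mul, inv_mul_cancel₀ he1]
  have hφA : ∀ a : F, φ ᵥ* A ≠ a • φ := by
    intro a h
    apply hφ0 a
    have h0 : φ0 = (φ0 ⬝ᵥ e0) • φ := by
      rw [hφ, smul_smul, mul_inv_cancel₀ he1, one_smul]
    rw [h0, smul_vecMul, h, smul_comm]
  have hψ : (φ ᵥ* A⁻¹) ⬝ᵥ e0 ≠ 0 := by
    rw [hφ, smul_vecMul, smul_dotProduct, smul_eq_mul]
    exact mul_ne_zero (inv_ne_zero he1) he2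
  obtain ⟨ε, hε⟩ : ∃ ε : ι ⊕ Unit → F, ε = (Sum.elim (0 : ι → F) (1 : Unit → F)) := ⟨_, rfl⟩
  have hlε : (lastφ : ι ⊕ Unit → F) ⬝ᵥ ε = 1 := by rw [hε, lastφ_dot]; rfl
  obtain ⟨P, hP, hφP, hPε⟩ := exists_P hφe hlε
  obtain ⟨B, hB⟩ : ∃ B, B = P⁻¹ * A * P := ⟨_, rfl⟩
  have hAB : A = P * B * P⁻¹ := by
    rw [hB]
    simp only [Matrix.mul_assoc]
    rw [mul_nonsing_inv _ hP, Matrix.mul_one, ← Matrix.mul_assoc, mul_nonsing_inv _ hP,
      Matrix.one_mul]
  have hBdet : B.det = A.det := by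
    rw [hAB, det_mul, det_mul, mul_right_comm, ← det_mul, mul_nonsing_inv _ hP, det_one, one_mul]
  have hBu : IsUnit B.det := by rw [hBdet]; exact hA
  have hlP : (lastφ : ι ⊕ Unit → F) ᵥ* P⁻¹ = φ := by
    rw [← hφP, vecMul_vecMul, mul_nonsing_inv _ hP, vecMul_one]
  obtain ⟨A', c, r, a, hblk⟩ : ∃ A' c r a, B = fromBlocks A' c r a :=
    ⟨_, _, _, _, (fromBlocks_toBlocks B).symm⟩
  -- `r ≠ 0`
  have hr : r ≠ 0 := by
    intro hr0
    have h1 : (lastφ : ι ⊕ Unit → F) ᵥ* B = (a () ()) • (lastφ : ι ⊕ Unit → F) := by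
      rw [hblk, hr0, lastφ, vecMul_fromBlocks]
      funext i
      cases i with
      | inl i => simp
      | inr i => simp [vecMul, dotProduct]
    apply hφA (a () ())
    have h2 : (lastφ : ι ⊕ Unit → F) ᵥ* B = (φ ᵥ* A) ᵥ* P := by
      rw [hB, Matrix.mul_assoc, ← vecMul_vecMul, hlP, vecMul_vecMul]
    rw [h2] at h1
    have h3 : φ ᵥ* A = ((φ ᵥ* A) ᵥ* P) ᵥ* P⁻¹ := by
      rw [vecMul_vecMul, mul_nonsing_inv _ hP, vecMul_one]
    rw [h3, h1, smul_vecMul, hlP]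
  -- `A'` is invertible
  have hA' : IsUnit A'.det := by
    rw [isUnit_iff_ne_zero]
    intro h0
    obtain ⟨h, hh0, hh⟩ := Matrix.exists_mulVec_eq_zero_iff.2 h0
    have h1 : B *ᵥ (Sum.elim h 0) = ((r *ᵥ h) ()) • ε := by
      rw [hblk, fromBlocks_mulVec, hε]
      have e1 : (Sum.elim h (0 : Unit → F)) ∘ Sum.inl = h := by funext i; rfl
      have e2 : (Sum.elim h (0 : Unit → F)) ∘ Sum.inr = 0 := by funext i; rfl
      rw [e1, e2, hh, mulVec_zero, mulVec_zero, add_zero, add_zero]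
      funext i
      cases i with
      | inl i => simp
      | inr i => simp
    have h2 : Sum.elim h 0 = ((r *ᵥ h) ()) • (B⁻¹ *ᵥ ε) := by
      rw [← mulVec_smul, ← h1, mulVec_mulVec, nonsing_inv_mul _ hBu, one_mulVec]
    have h3 : (lastφ : ι ⊕ Unit → F) ⬝ᵥ (B⁻¹ *ᵥ ε) ≠ 0 := by
      have h4 : B⁻¹ = P⁻¹ * A⁻¹ * P := by
        rw [hB, Matrix.mul_inv_rev, Matrix.mul_inv_rev, Matrix.nonsing_inv_nonsing_inv _ hP,
          Matrix.mul_assoc]
      rw [h4, dotProduct_mulVec, Matrix.mul_assoc, ← vecMul_vecMul, hlP, ← vecMul_vecMul,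
        ← dotProduct_mulVec, hPε]
      exact hψ
    have h5 := congrArg (fun z => (lastφ : ι ⊕ Unit → F) ⬝ᵥ z) h2
    simp only [dotProduct_smul, smul_eq_mul, lastφ_dot] at h5
    have h6 : (r *ᵥ h) () = 0 := by
      have : (r *ᵥ h) () * ((lastφ : ι ⊕ Unit → F) ⬝ᵥ (B⁻¹ *ᵥ ε)) = 0 := h5.symm
      exact (mul_eq_zero.1 this).resolve_right h3
    rw [h6, zero_smul] at h2
    apply hh0
    funext i
    exact congrFun h2 (Sum.inl i)
  obtain ⟨P', Q', h1, h2, h3⟩ := blk hq hA' hr (by rw [← hblk]; exact hBu) hf hfd hg hgd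
    (by rw [← hblk, hBdet]; exact hfg)
  refine ⟨P * P' * P⁻¹, P * Q' * P⁻¹, ?_, ?_, ?_⟩
  · rw [← hblk] at h1
    calc P * P' * P⁻¹ * (P * Q' * P⁻¹) = P * P' * (P⁻¹ * P) * Q' * P⁻¹ := by
          simp only [Matrix.mul_assoc]
      _ = P * (P' * Q') * P⁻¹ := by
          rw [nonsing_inv_mul _ hP, Matrix.mul_one, Matrix.mul_assoc P]
      _ = A := by rw [h1, ← hAB]
  · rw [charpoly_conj' hP, h2]
  · rw [charpoly_conj' hP, h3]

/-- **Theorem T.** Every nonscalar invertible matrix over a finite field with at least three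
elements is a product of a matrix with arbitrary characteristic polynomial `f` and one with
characteristic polynomial `(t - y) g`, `g` arbitrary (constant terms nonzero and matching). -/
theorem main {κ : Type*} [Fintype κ] [DecidableEq κ] (hq : 3 ≤ Fintype.card F)
    {A : Matrix κ κ F} (hA : IsUnit A.det) (hns : ∀ a : F, A ≠ a • 1) {f g : F[X]} {y : F}
    (hf : f.Monic) (hfd : f.natDegree = Fintype.card κ) (hg : g.Monic)
    (hgd : g.natDegree + 1 = Fintype.card κ)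
    (hfg : f.coeff 0 * (-(y * g.coeff 0)) = A.det) :
    ∃ P Q : Matrix κ κ F, P * Q = A ∧ P.charpoly = f ∧ Q.charpoly = (X - C y) * g := by
  -- the degree of `g` is positive
  have hpos : g.natDegree ≠ 0 := by
    intro h0
    rw [h0, zero_add] at hgd
    obtain ⟨k, hk⟩ := Fintype.card_eq_one_iff.1 hgd.symm
    apply hns (A k k)
    ext i j
    rw [hk i, hk j]
    simp
  obtain ⟨m, hm⟩ : ∃ m, g.natDegree = m + 1 := ⟨g.natDegree - 1, by omega⟩
  have hcard : Fintype.card κ = m + 1 + 1 := by rw [← hgd, hm]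
  let E : κ ≃ Fin (m + 1) ⊕ Unit := Fintype.equivOfCardEq (by simp [hcard])
  have hdet : (Matrix.reindex E E A).det = A.det := Matrix.det_reindex_self E A
  obtain ⟨P, Q, h1, h2, h3⟩ := main_sum hq (A := Matrix.reindex E E A) (f := f) (g := g) (y := y)
    (by rw [hdet]; exact hA)
    (by
      intro a ha
      apply hns a
      have := congrArg (Matrix.reindex E E).symm ha
      rw [Equiv.symm_apply_apply] at this
      rw [this]
      ext i j
      simp [Matrix.one_apply])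
    hf (by rw [hfd, hcard]; simp) hg (by rw [hm]; simp) (by rw [hdet]; exact hfg)
  refine ⟨Matrix.reindex E.symm E.symm P, Matrix.reindex E.symm E.symm Q, ?_, ?_, ?_⟩
  · have : (Matrix.reindex E.symm E.symm P) * (Matrix.reindex E.symm E.symm Q)
        = Matrix.reindex E.symm E.symm (P * Q) := by
      simp [Matrix.submatrix_mul_equiv]
    rw [this, h1]
    ext i j
    simp
  · rw [Matrix.charpoly_reindex, h2]
  · rw [Matrix.charpoly_reindex, h3]

end D

end Cfsg.Agent.H426.TL
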